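import Cfsg.Agent.Lib.Fischer.Thm.List
import Cfsg.Agent.Lib.Fischer.Relations.Model
import Cfsg.Agent.Lib.Fischer.RankThree

/-!
# Coordinates of a neighbourhood with a unitary group

If the group of the neighbours of a member is `PSU(n, 2)` modulo its centre with the transvections as the
image of the neighbours, then the neighbours correspond to the isotropic points, conjugation by a
neighbour is the transvection, and every special isometry is realized by conjugation.
-/

set_option autoImplicit false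
set_option linter.unusedSectionVars false

namespace Cfsg.Lib.Fischer.Thm.Unitary

open Module Cfsg Cfsg.Lib.Fischer Cfsg.Lib.Fischer.Relations Cfsg.Lib.Linear.Herm Cfsg.Agent.S1631
  Cfsg.Lib.Fischer.RadicalAbelian

/-- Coordinates of the neighbours of `d` by isotropic points, with the action of the special isometries. -/
structure Chart {G : Type*} [Group G] (D : Set G) (d : G) {F V : Type*} [Field F] [AddCommGroup V]
    [Module F V] {σ : F →+* F} (B : V →ₛₗ[σ] V →ₗ[F] F) where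
  c : G → V
  iso : ∀ s ∈ perp D d, B (c s) (c s) = 0
  ne : ∀ s ∈ perp D d, c s ≠ 0
  comm : ∀ a ∈ perp D d, ∀ b ∈ perp D d, Commute a b ↔ B (c a) (c b) = 0
  every : ∀ w, B w w = 0 → w ≠ 0 → ∃ s ∈ perp D d, ∃ k : F, k ≠ 0 ∧ c s = k • w
  inj : ∀ a ∈ perp D d, ∀ b ∈ perp D d, ∀ k : F, c b = k • c a → a = b
  cjc : ∀ a ∈ perp D d, ∀ b ∈ perp D d,
    ∃ k : F, k ≠ 0 ∧ c (cj a b) = k • (c b + B (c a) (c b) • c a)
  real : ∀ g ∈ Cfsg.Lib.Linear.Herm.iso B, LinearEquiv.det g = 1 → ∃ h ∈ Subgroup.closure (perp D d),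
    ∀ s ∈ perp D d, ∃ k : F, k ≠ 0 ∧ c (h * s * h⁻¹) = k • g (c s)

variable {F : Type*} [Field F] [Fintype F]

/-- Two transvections with the same image modulo the centre are equal. -/
theorem tvu_eq_of_mk (hF : Fintype.card F = 2 ^ 2) {n : ℕ} (hn : 3 ≤ n) {A A' : ↥(Cfsg.SU n F 2)}
    {v w : Fin n → F} (hv : hB hF n v v = 0) (hw : hB hF n w w = 0)
    (hA : model hF n A = tvu (fourField hF) hv) (hA' : model hF n A' = tvu (fourField hF) hw)
    (h : (A : Cfsg.PSU n F 2) = (A' : Cfsg.PSU n F 2)) : A = A' := by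
  classical
  have hc := QuotientGroup.eq.1 h
  obtain ⟨k, hk⟩ := exists_scalar hF (n := n) (by omega)
    (((A⁻¹ * A' : ↥(Cfsg.SU n F 2)) : Matrix.SpecialLinearGroup (Fin n) F) : Matrix (Fin n) (Fin n) F)
    fun X hX => by
      have h' := Subgroup.mem_center_iff.1 hc ⟨X, hX⟩
      exact congrArg (fun x : Cfsg.SU n F 2 =>
        ((x.1 : Matrix.SpecialLinearGroup (Fin n) F) : Matrix (Fin n) (Fin n) F)) h'
  obtain ⟨u, hu0, huv, huw⟩ : ∃ u, u ≠ 0 ∧ hB hF n v u = 0 ∧ hB hF n w u = 0 := by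
    obtain ⟨u, hu, hu0⟩ : ∃ u ∈ LinearMap.ker ((hB hF n v).prod (hB hF n w)), u ≠ 0 := by
      refine Submodule.exists_mem_ne_zero_of_ne_bot fun hbot => ?_
      have h1 := LinearMap.finrank_range_add_finrank_ker ((hB hF n v).prod (hB hF n w))
      have h2 := Submodule.finrank_le (LinearMap.range ((hB hF n v).prod (hB hF n w)))
      rw [Module.finrank_prod, Module.finrank_self] at h2
      rw [hbot, finrank_bot, finrank_fin_fun] at h1
      omega
    simp only [LinearMap.ker_prod, Submodule.mem_inf, LinearMap.mem_ker] at hu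
    exact ⟨u, hu0, hu⟩
  have e1 : model hF n (A⁻¹ * A') u = u := by
    rw [map_mul, map_inv, LinearEquiv.mul_apply, hA', tvu_apply, huw, zero_smul, add_zero, hA, tvu_inv,
      tvu_apply, huv, zero_smul, add_zero]
  have e2 : ∀ x, model hF n (A⁻¹ * A') x = k • x := fun x => by
    rw [model_apply, hk, Matrix.scalar_apply]
    exact funext fun i => by rw [Matrix.mulVec_diagonal]; rfl
  have hk1 : k = 1 := by
    rw [e2] at e1
    exact smul_left_injective F hu0 (e1.trans (one_smul F u).symm)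
  refine inv_mul_eq_one.1 (model_injective hF n (LinearEquiv.ext fun x => ?_))
  rw [e2, hk1, one_smul, map_one]
  rfl

/-- A special unitary matrix with difference of rank one from the identity is a transvection. -/
theorem exists_tvu_of_rank (hF : Fintype.card F = 2 ^ 2) {n : ℕ} (A : ↥(Cfsg.SU n F 2))
    (h : (((A : Matrix.SpecialLinearGroup (Fin n) F) : Matrix (Fin n) (Fin n) F) - 1).rank = 1) :
    ∃ (w : Fin n → F) (hw : hB hF n w w = 0), w ≠ 0 ∧ model hF n A = tvu (fourField hF) hw := by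
  classical
  obtain ⟨T, hT⟩ : ∃ T : (Fin n → F) →ₗ[F] (Fin n → F), T = Matrix.mulVecLin
      (((A : Matrix.SpecialLinearGroup (Fin n) F) : Matrix (Fin n) (Fin n) F) - 1) := ⟨_, rfl⟩
  have hTx : ∀ x, model hF n A x = x + T x := by
    intro x
    rw [model_apply, hT, Matrix.mulVecLin_apply, Matrix.sub_mulVec, Matrix.one_mulVec]
    abel
  have h1 : finrank F (LinearMap.range T) = 1 := by rw [hT]; exact h
  obtain ⟨⟨a, ha⟩, ha0, hspan⟩ := finrank_eq_one_iff'.mp h1
  have ha0' : a ≠ 0 := fun h0 => ha0 (Subtype.ext h0)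
  choose f hf using fun x => hspan ⟨T x, LinearMap.mem_range_self T x⟩
  have hfx : ∀ x, T x = f x • a := fun x => (congrArg Subtype.val (hf x)).symm
  let f' : (Fin n → F) →ₗ[F] F :=
    { toFun := f
      map_add' := fun x y => smul_left_injective F ha0' (by
        show f (x + y) • a = (f x + f y) • a
        rw [add_smul, ← hfx, ← hfx, ← hfx, map_add])
      map_smul' := fun c x => smul_left_injective F ha0' (by
        show f (c • x) • a = (c • f x) • a
        rw [smul_assoc, ← hfx, ← hfx, map_smul]) }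
  have hne : model hF n A ≠ 1 := by
    intro h1
    obtain ⟨x, hx⟩ := ha
    apply ha0'
    have := hTx x
    rw [h1, hx] at this
    exact add_eq_left.mp this.symm
  obtain ⟨hw, he⟩ := rank_one (fourField hF) (hB_isSymm hF n) (hB_nondegenerate hF n) (model_mem hF n A)
    (model_det hF n A) ha0' f' (fun x => by rw [hTx, hfx]; rfl) hne
  exact ⟨a, hw, ha0', he⟩

variable {G : Type*} [Group G] [Finite G] {D : Set G}

/-- A neighbourhood with group `PSU(n, 2)` modulo its centre has a chart. -/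
theorem exists_chart (hFi : IsFischer D) {d : G} (hd : d ∈ D) (hF : Fintype.card F = 2 ^ 2) {n : ℕ}
    (hn : 4 ≤ n) (e : Loc G D d ≃* Cfsg.PSU n F 2)
    (he : e '' locSet G D d = (QuotientGroup.mk : ↥(Cfsg.SU n F 2) → Cfsg.PSU n F 2) ''
      {g : ↥(Cfsg.SU n F 2) |
        (((g : Matrix.SpecialLinearGroup (Fin n) F) : Matrix (Fin n) (Fin n) F) - 1).rank = 1}) :
    Nonempty (Chart D d (hB hF n)) := by
  classical
  have hD := hFi.toTrans
  have hsep := fun a ha b hb h => eq_of_commute_iff hFi (a := a) (b := b) ha hb h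
  have hnc : ∀ a ∈ perp D d, ∃ e ∈ perp D d, ¬ Commute a e :=
    fun a ha => exists_perp_noncommute hD hsep hd ha
  have hK := fourField hF
  have hS := hB_isSymm hF n
  have hND := hB_nondegenerate hF n
  have h4 : 4 ≤ finrank F (Fin n → F) := by rwa [finrank_fin_fun]
  let φ : ↥(Subgroup.closure (perp D d)) →* Cfsg.PSU n F 2 :=
    e.toMonoidHom.comp (QuotientGroup.mk' _)
  have hφs : Function.Surjective φ := e.surjective.comp (QuotientGroup.mk'_surjective _)
  have hex : ∀ s, ∃ (A : ↥(Cfsg.SU n F 2)) (w : Fin n → F), ∀ hs : s ∈ perp D d,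
      φ ⟨s, Subgroup.subset_closure hs⟩ = (A : Cfsg.PSU n F 2) ∧ w ≠ 0 ∧
        ∃ hw : hB hF n w w = 0, model hF n A = tvu hK hw := by
    intro s
    by_cases hs : s ∈ perp D d
    · obtain ⟨A, hA, hAe⟩ : e (bar hs) ∈ (QuotientGroup.mk : ↥(Cfsg.SU n F 2) → Cfsg.PSU n F 2) '' _ :=
        he ▸ Set.mem_image_of_mem e (bar_mem hs)
      obtain ⟨w, hw, hw0, hAw⟩ := exists_tvu_of_rank hF A hA
      exact ⟨A, w, fun _ => ⟨hAe.symm, hw0, hw, hAw⟩⟩
    · exact ⟨1, 0, fun h => absurd h hs⟩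
  choose L c hLc using hex
  have hiso : ∀ s ∈ perp D d, hB hF n (c s) (c s) = 0 := fun s hs => (hLc s hs).2.2.1
  have hne : ∀ s ∈ perp D d, c s ≠ 0 := fun s hs => (hLc s hs).2.1
  have hconj : ∀ h ∈ Subgroup.closure (perp D d), ∀ s ∈ perp D d, h * s * h⁻¹ ∈ perp D d := fun h hh s hs =>
    ((conj_mem_perp hD hd (Subgroup.closure_mono (Set.subset_insert _ _) hh)).2 s hs).1
  have key : ∀ (h : ↥(Subgroup.closure (perp D d))) (A : ↥(Cfsg.SU n F 2)), φ h = (A : Cfsg.PSU n F 2) →
      ∀ s ∈ perp D d, ∃ k : F, k ≠ 0 ∧ c ((h : G) * s * (h : G)⁻¹) = k • model hF n A (c s) := by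
    intro h A hA s hs
    obtain ⟨hLs, hs0, hw, hLw⟩ := hLc s hs
    obtain ⟨hLs', hs0', hw', hLw'⟩ := hLc _ (hconj h h.2 s hs)
    have hw2 : hB hF n (model hF n A (c s)) (model hF n A (c s)) = 0 := by rw [model_mem hF n A, hw]
    have hm : model hF n (A * L s * A⁻¹) = tvu hK hw2 := by
      rw [map_mul, map_mul, map_inv, hLw, tvu_conj hK (model_mem hF n A)]
    have heq : A * L s * A⁻¹ = L ((h : G) * s * (h : G)⁻¹) := by
      refine tvu_eq_of_mk hF (by omega) hw2 hw' hm hLw' ?_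
      rw [QuotientGroup.mk_mul, QuotientGroup.mk_mul, QuotientGroup.mk_inv, ← hA, ← hLs, ← hLs',
        ← map_inv, ← map_mul, ← map_mul]
      rfl
    rw [heq, hLw'] at hm
    exact Relations.tvu_eq hK hS hND hw2 hw' hs0' hm.symm
  have hcomm : ∀ a ∈ perp D d, ∀ b ∈ perp D d, Commute a b ↔ hB hF n (c a) (c b) = 0 := by
    intro a ha b hb
    obtain ⟨hLa, -, hwa, hAa⟩ := hLc a ha
    obtain ⟨hLb, -, hwb, hAb⟩ := hLc b hb
    rw [← tvu_commute_iff hK hS hND hwa hwb, ← hAa, ← hAb]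
    constructor
    · intro h
      have hw2 : hB hF n (model hF n (L a) (c b)) (model hF n (L a) (c b)) = 0 := by
        rw [model_mem hF n (L a), hwb]
      have hm : model hF n (L a * L b * (L a)⁻¹) = tvu hK hw2 := by
        rw [map_mul, map_mul, map_inv, hAb, tvu_conj hK (model_mem hF n (L a))]
      have heq : L a * L b * (L a)⁻¹ = L b := by
        refine tvu_eq_of_mk hF (by omega) hw2 hwb hm hAb ?_
        rw [QuotientGroup.mk_mul, QuotientGroup.mk_mul, QuotientGroup.mk_inv, ← hLa, ← hLb,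
          (Commute.map (show Commute (⟨a, Subgroup.subset_closure ha⟩ : Subgroup.closure (perp D d))
            ⟨b, Subgroup.subset_closure hb⟩ from Subtype.ext h.eq) φ).eq, mul_inv_cancel_right]
      exact Commute.map (show Commute (L a) (L b) from mul_inv_eq_iff_eq_mul.1 heq) _
    · intro h
      have h' : Commute (φ ⟨a, Subgroup.subset_closure ha⟩) (φ ⟨b, Subgroup.subset_closure hb⟩) := by
        rw [hLa, hLb]
        exact (Commute.of_map (model_injective hF n) h).map (QuotientGroup.mk' _)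
      exact (bar_commute hD (fun _ h => h.1) ha hb).1 (Commute.of_map e.injective h')
  refine ⟨⟨c, hiso, hne, hcomm, fun w hw hw0 => ?_, fun a ha b hb k hk => ?_, fun a ha b hb => ?_,
    fun g hg hgd => ?_⟩⟩
  · obtain ⟨y, hy, hyd, hdy⟩ := exists_perp hFi hd
    have hs₀ : y ∈ perp D d := ⟨hy, hyd, hdy⟩
    obtain ⟨g, hg, hgd, hgw⟩ := special_trans hK hS hND h4 (hiso y hs₀) hw (hne y hs₀) hw0
    obtain ⟨A, hA⟩ := model_surjective hF n hg hgd
    obtain ⟨h, hh⟩ := hφs (A : Cfsg.PSU n F 2)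
    obtain ⟨k, hk, e1⟩ := key h A hh y hs₀
    exact ⟨_, hconj h h.2 y hs₀, k, hk, by rw [e1, hA, hgw]⟩
  · obtain ⟨hLa, -, hwa, hAa⟩ := hLc a ha
    obtain ⟨hLb, hb0, hwb, hAb⟩ := hLc b hb
    have hk0 : k ≠ 0 := fun h0 => hb0 (by rw [hk, h0, zero_smul])
    have hk2 : hB hF n (k • c a) (k • c a) = 0 := hk ▸ hwb
    have hAB : L a = L b := model_injective hF n (by
      rw [hAa, hAb, tvu_congr hK hwb hk2 hk, tvu_smul hK hwa hk0 hk2])
    refine bar_inj hD (fun _ h => h.1) hnc ha hb (e.injective ?_)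
    show φ ⟨a, Subgroup.subset_closure ha⟩ = φ ⟨b, Subgroup.subset_closure hb⟩
    rw [hLa, hLb, hAB]
  · obtain ⟨hLa, -, hwa, hAa⟩ := hLc a ha
    obtain ⟨k, hk, e1⟩ := key ⟨a, Subgroup.subset_closure ha⟩ (L a) hLa b hb
    refine ⟨k, hk, ?_⟩
    rw [cj_conj hD ha.1, e1, hAa, tvu_apply]
  · obtain ⟨A, hA⟩ := model_surjective hF n hg hgd
    obtain ⟨h, hh⟩ := hφs (A : Cfsg.PSU n F 2)
    exact ⟨h, h.2, fun s hs => hA ▸ key h A hh s hs⟩

/-- Charts are carried along by conjugation. -/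
theorem Chart.conj (hD : Trans D) {V : Type*} [AddCommGroup V] [Module F V] {σ : F →+* F}
    {B : V →ₛₗ[σ] V →ₗ[F] F} {d : G} (U : Chart D d B) (g : G) :
    Nonempty (Chart D (g * d * g⁻¹) B) := by
  have hm : ∀ {s}, s ∈ perp D (g * d * g⁻¹) → g⁻¹ * s * g ∈ perp D d :=
    fun {s} hs => (mem_perp_conj hD g d s).1 hs
  refine ⟨{
    c := fun s => U.c (g⁻¹ * s * g)
    iso := fun s hs => U.iso _ (hm hs)
    ne := fun s hs => U.ne _ (hm hs)
    comm := fun a ha b hb => ?_
    every := fun w hw hw0 => ?_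
    inj := fun a ha b hb k hk => ?_
    cjc := fun a ha b hb => ?_
    real := fun f hf hfd => ?_ }⟩
  · rw [← U.comm _ (hm ha) _ (hm hb)]
    have := Commute.conj_iff g⁻¹ (a := a) (b := b)
    rw [inv_inv] at this
    exact this.symm
  · obtain ⟨s, hs, k, hk, hc⟩ := U.every w hw hw0
    refine ⟨g * s * g⁻¹, (mem_perp_conj hD g d _).2 (by simpa [mul_assoc] using hs), k, hk, ?_⟩
    simpa [mul_assoc] using hc
  · simpa using U.inj _ (hm ha) _ (hm hb) k hk
  · obtain ⟨k, hk, e⟩ := U.cjc _ (hm ha) _ (hm hb)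
    refine ⟨k, hk, ?_⟩
    rw [← e]
    congr 1
    simp only [cj_def, mul_assoc, mul_inv_cancel_left]
  · obtain ⟨h, hh, hs⟩ := U.real f hf hfd
    refine ⟨g * h * g⁻¹, ?_, fun s hs' => ?_⟩
    · have hle : Subgroup.closure (perp D d) ≤
          (Subgroup.closure (perp D (g * d * g⁻¹))).comap (MulAut.conj g).toMonoidHom := by
        rw [Subgroup.closure_le]
        intro s hs
        refine Subgroup.subset_closure ((mem_perp_conj hD g d _).2 ?_)
        simpa [mul_assoc] using hs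
      exact hle hh
    · obtain ⟨k, hk, e⟩ := hs _ (hm hs')
      refine ⟨k, hk, ?_⟩
      rw [← e]
      congr 1
      group

end Cfsg.Lib.Fischer.Thm.Unitary
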