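import Cfsg.Agent.Lib.Fischer.Thm.Unitary.Frame
import Cfsg.Agent.Lib.Fischer.Thm.Steps

/-!
# Unitary neighbourhoods occur in dimension four and six only

In dimension at least seven there is no frame of five. In dimension five the members commuting with `b`
and not with `c` would split by a property that is invariant under an isometry fixing `x`, `y` and `c` in the
coordinates at `b`, although these isometries are transitive on them.
-/

set_option autoImplicit false
set_option linter.unusedSectionVars false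

namespace Cfsg.Lib.Fischer.Thm.Unitary

open Module Cfsg Cfsg.Lib.Fischer Cfsg.Lib.Fischer.Relations Cfsg.Lib.Linear.Herm Cfsg.Agent.S1631
  Cfsg.Lib.Fischer.RadicalAbelian

section Siegel

variable {F V : Type*} [Field F] [Fintype F] [AddCommGroup V] [Module F V]
  [FiniteDimensional F V] {σ : F →+* F} {B : V →ₛₗ[σ] V →ₗ[F] F}
  (hK : FourField F σ) (hS : B.IsSymm)
include hK hS

theorem siegel_comp (C a v : V) (t t' : F) (hC : B C C = 0) (hCa : B C a = 0) (ht : t + t' + B a a = 0) :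
    (v + B C v • a + (B a v + t * B C v) • C) +
      B C (v + B C v • a + (B a v + t * B C v) • C) • a +
      (B a (v + B C v • a + (B a v + t * B C v) • C) +
        t' * B C (v + B C v • a + (B a v + t * B C v) • C)) • C = v := by
  have h1 : B C (v + B C v • a + (B a v + t * B C v) • C) = B C v := by simp [hC, hCa]
  have h2 : B a (v + B C v • a + (B a v + t * B C v) • C) = B a v + B C v * B a a := by
    simp [hS.isRefl _ _ hCa]
  rw [h1, h2]
  match_scalars
  · ring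
  · linear_combination B C v * hK.two
  · linear_combination B a v * hK.two + B C v * ht

/-- A special isometry fixing `C` and all vectors perpendicular to the three, moving `D₁` to `D₂`. -/
theorem exists_siegel {C D₁ D₂ : V} (hC : B C C = 0) (h₁ : B D₁ D₁ = 0) (h₂ : B D₂ D₂ = 0)
    (e₁ : B C D₁ = 1) (e₂ : B C D₂ = 1) :
    ∃ g ∈ Cfsg.Lib.Linear.Herm.iso B, LinearEquiv.det g = 1 ∧ g C = C ∧ g D₁ = D₂ ∧
      ∀ v, B C v = 0 → B D₁ v = 0 → B D₂ v = 0 → g v = v := by
  obtain ⟨a, ha⟩ : ∃ a, a = D₁ + D₂ := ⟨_, rfl⟩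
  obtain ⟨t, ht⟩ : ∃ t, t = B a D₁ := ⟨_, rfl⟩
  have hCa : B C a = 0 := by rw [ha, map_add, e₁, e₂, ← two_mul, hK.two, zero_mul]
  have haC : B a C = 0 := hS.isRefl _ _ hCa
  have hst : σ t = B D₁ a := by rw [ht, hS.eq a D₁]
  have htN : t + σ t + B a a = 0 := by
    rw [hst, ht]
    simp only [ha, map_add, LinearMap.add_apply, h₁, h₂]
    linear_combination (B D₁ D₂ + B D₂ D₁) * hK.two
  have htN' : σ t + t + B a a = 0 := by linear_combination htN
  let g : V ≃ₗ[F] V :=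
    { toFun := fun v => v + B C v • a + (B a v + t * B C v) • C
      map_add' := fun u v => by simp only [map_add]; module
      map_smul' := fun k v => by simp only [map_smul, smul_eq_mul, RingHom.id_apply]; module
      invFun := fun v => v + B C v • a + (B a v + σ t * B C v) • C
      left_inv := fun v => siegel_comp hK hS C a v t (σ t) hC hCa htN
      right_inv := fun v => siegel_comp hK hS C a v (σ t) t hC hCa htN' }
  have hg : ∀ v, g v = v + B C v • a + (B a v + t * B C v) • C := fun v => rfl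
  have hgi : g ∈ Cfsg.Lib.Linear.Herm.iso B := by
    intro u v
    rw [hg, hg]
    simp only [map_add, LinearMap.add_apply, LinearMap.map_smulₛₗ, LinearMap.smul_apply, map_smul,
      smul_eq_mul, hC, hCa, haC, map_mul, hS.eq a u, hS.eq C u]
    linear_combination (B u C * B C v) * htN + (B u C * B a v + B u a * B C v) * hK.two
  have hgC : g C = C := by rw [hg, hC, haC]; simp
  have hgg : ∀ v, g (g v) = v + (B a a * B C v) • C := fun v => by
    have h1 : B C (g v) = B C v := by rw [hg]; simp [hC, hCa]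
    have h2 : B a (g v) = B a v + B C v * B a a := by rw [hg]; simp [haC]
    rw [hg (g v), h1, h2, hg]
    match_scalars
    · ring
    · linear_combination B C v * hK.two
    · linear_combination (B a v + t * B C v) * hK.two
  have h4 : g * g * (g * g) = 1 := LinearEquiv.ext fun v => by
    simp only [LinearEquiv.mul_apply, hgg, map_add, map_smul, hC, mul_zero, add_zero, zero_smul]
    show _ = v
    rw [add_assoc, ← add_smul, ← two_mul, hK.two, zero_mul, zero_smul, add_zero]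
  refine ⟨g, hgi, ?_, hgC, ?_, fun v hv h1 h2 => ?_⟩
  · have h := congrArg LinearEquiv.det h4
    simp only [map_mul, map_one] at h
    have h3 : LinearEquiv.det g * LinearEquiv.det g * LinearEquiv.det g = 1 :=
      Units.ext (by simpa using hK.cube _ (LinearEquiv.det g).ne_zero)
    rw [← mul_assoc, h3, one_mul] at h
    exact h
  · rw [hg, e₁, mul_one, ← ht, ← two_mul, hK.two, zero_mul, zero_smul, add_zero, one_smul, ha]
    rw [← add_assoc, ← two_smul F D₁, hK.two, zero_smul, zero_add]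
  · rw [hg, hv, ha, map_add, LinearMap.add_apply, h1, h2]; simp

end Siegel

variable {G : Type*} [Group G] [Finite G] {F V : Type*} [Field F] [Fintype F] [AddCommGroup V] [Module F V]
  [FiniteDimensional F V] {σ : F →+* F} {B : V →ₛₗ[σ] V →ₗ[F] F}
  (hK : FourField F σ) (hS : B.IsSymm) (hB : B.Nondegenerate)
variable {D : Set G} (hD : Trans D) (hU : ∀ d ∈ D, Nonempty (Chart D d B)) {x y : G} (hx : x ∈ D)
  (U : Chart D x B) (hxy : ¬ Commute x y) (hy : y ∈ D)
include hK hS hB hD hU hx hxy hy U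

/-- There is no unitary neighbourhood of dimension five with a common neighbour. -/
theorem not_dim_five (hdim : finrank F V = 5) {pb : G} (hpb : pb ∈ common D x y) : False := by
  obtain ⟨ω, hω0, hω1, hsω, hω⟩ := exists_omega hK
  have hInS : ∀ {p}, p ∈ common D x y → InS U y (U.c p) := fun {p} hp =>
    ⟨p, hp, 1, one_ne_zero, (one_smul _ _).symm⟩
  have hne0 : ∀ {a : F}, a ≠ 0 → σ a ≠ 0 := fun ha h => ha (σ.injective (by rw [h, map_zero]))
  have h1ω : (1 : F) + ω ≠ 0 := fun h => hω1 (by linear_combination h - hK.two)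
  -- the frame at `b`
  have hbb := U.iso pb hpb.1
  obtain ⟨e, he⟩ := exists_frame hK hS hB hD hU hx U hxy hy (hInS hpb) hbb le_rfl (by omega : 3 + 2 = finrank F V)
  obtain ⟨pc, hpc, k', hk', hcc⟩ := he.two 0 1 (by decide) 1 one_ne_zero
  have hsk' := hne0 hk'
  have hbc : B (U.c pb) (U.c pc) = 0 := by rw [hcc]; simp [he.perp]
  have hcomm_bc : Commute pb pc := (U.comm pb hpb.1 pc hpc.1).2 hbc
  have hpcb : pc ≠ pb := by
    intro h
    rw [h] at hcc
    have := congrArg (B (e 0)) hcc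
    simp [hS.isRefl _ _ (he.perp 0), he.orth 0 0, he.orth 0 1, hk'.symm] at this
  -- the frame at `c`
  have hcb : ∀ r : F, U.c pb ≠ r • U.c pc := fun r h => hpcb (U.inj pc hpc.1 pb hpb.1 r h)
  obtain ⟨f, hf⟩ := exists_frame hK hS hB hD hU hx U hxy hy (hInS hpc) (U.iso pc hpc.1) le_rfl
    (by omega : 3 + 2 = finrank F V)
  obtain ⟨i, j, k, hij, hik, hjk, κ, a, hκ, ha, hb⟩ :=
    hf.support hK hS hB hD hU hx U hxy hy (hInS hpc) (U.iso pc hpc.1) (hInS hpb) (hS.isRefl _ _ hbc) hcb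
  have hsκ := hne0 hκ
  have hsa := norm_one hK ha
  have hzb : B (U.c pb) (f k) = 0 := by rw [hb]; simp [hf.orth i k, hf.orth j k, hik, hjk]
  have hzc : B (f k) (U.c pc) = 0 := hS.isRefl _ _ (hf.perp k)
  let Q : G → Prop := fun q => q ∈ common D x y ∧ Commute pc q ∧ ¬ Commute pb q
  let R : G → Prop := fun d => ∀ q q', Q q → Q q' → (Commute d q ↔ Commute d q')
  have hmem : ∀ {u : V}, InS U y u → B (U.c pc) u = 0 → B (U.c pb) u ≠ 0 →
      ∃ q, Q q ∧ ∀ d ∈ perp D x, (Commute d q ↔ B (U.c d) u = 0) := by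
    intro u hu h1 h2
    obtain ⟨q, hq, l, hl, hqc⟩ := hu
    refine ⟨q, ⟨hq, (U.comm pc hpc.1 q hq.1).2 (by rw [hqc, map_smul, h1, smul_zero]), fun h => h2 ?_⟩,
      fun d hd => by rw [U.comm d hd q hq.1, hqc, map_smul, smul_eq_mul, mul_eq_zero, or_iff_right hl]⟩
    have := (U.comm pb hpb.1 q hq.1).1 h
    rw [hqc, map_smul, smul_eq_mul] at this
    exact (mul_eq_zero.1 this).resolve_left hl
  have hdb : ∀ {d}, d ∈ common D x y → Commute pb d → B (U.c d) (f i) + a * B (U.c d) (f j) = 0 := by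
    intro d hd hbd
    have := hS.isRefl _ _ ((U.comm pb hpb.1 d hd.1).1 hbd)
    rw [hb, map_smul, smul_eq_mul, mul_eq_zero, or_iff_right hκ, map_add, map_smul, smul_eq_mul] at this
    exact this
  have hpos : ∀ {d}, d ∈ common D x y → Commute pb d → B (f k) (U.c d) = 0 → R d := by
    intro d hd hbd hdz
    have hlin := hdb hd hbd
    have hzd : B (U.c d) (f k) = 0 := hS.isRefl _ _ hdz
    have key : ∀ q, Q q → (Commute d q ↔ B (U.c d) (f j) = 0) := by
      rintro q ⟨hq, hcq, hbq⟩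
      have hne : ∀ r : F, U.c q ≠ r • U.c pc := fun r h =>
        hbq (U.inj pc hpc.1 q hq.1 r h ▸ hcomm_bc)
      obtain ⟨i', j', -, -, -, -, κ', a', -, -, hq'⟩ := hf.support hK hS hB hD hU hx U hxy hy (hInS hpc)
        (U.iso pc hpc.1) (hInS hq) ((U.comm pc hpc.1 q hq.1).1 hcq) hne
      have hl : ∀ l, B (U.c d) (f l) = a * B (U.c d) (f j) * (B (f i) (f l) + σ a * B (f j) (f l)) := by
        intro l
        rcases (by decide : ∀ i j k l : Fin 3, i ≠ j → i ≠ k → j ≠ k → l = i ∨ l = j ∨ l = k) i j k l hij hik hjk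
          with rfl | rfl | rfl
        · simp [hf.orth l l, hf.orth j l, hij.symm]
          linear_combination hlin - a * B (U.c d) (f j) * hK.two
        · simp [hf.orth l l, hf.orth i l, hij]
          linear_combination (-B (U.c d) (f l)) * hsa
        · simp [hf.orth i l, hf.orth j l, hik, hjk, hzd]
      have e1 : B (U.c d) (U.c q) = a * B (U.c d) (f j) * (B (f i) (U.c q) + σ a * B (f j) (U.c q)) := by
        simp only [hq', map_smul, map_add, smul_eq_mul]
        linear_combination κ' * hl i' + κ' * a' * hl j'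
      have e2 : B (U.c pb) (U.c q) = σ κ * (B (f i) (U.c q) + σ a * B (f j) (U.c q)) := by
        rw [hb]; simp [mul_add]
      have e3 : B (f i) (U.c q) + σ a * B (f j) (U.c q) ≠ 0 := fun h =>
        hbq ((U.comm pb hpb.1 q hq.1).2 (by rw [e2, h, mul_zero]))
      rw [U.comm d hd.1 q hq.1, e1, mul_eq_zero, or_iff_left e3, mul_eq_zero, or_iff_right ha]
    exact fun q q' h h' => (key q h).trans (key q' h').symm
  have hneg : ∀ {d}, d ∈ common D x y → Commute pb d → B (f k) (U.c d) ≠ 0 → ¬ R d := by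
    intro d hd hbd hdz hR
    have hζ : B (U.c d) (f k) ≠ 0 := fun h => hdz (hS.isRefl _ _ h)
    have hft : ∀ t : F, t ≠ 0 → ∃ q, Q q ∧ (Commute d q ↔ B (U.c d) (f i) + t * B (U.c d) (f k) = 0) := by
      intro t ht
      obtain ⟨q, hq, h⟩ := hmem (hf.two i k hik t ht) (by simp [hf.perp]) (by
        rw [hb]
        simp [hf.orth i i, hf.orth i k, hf.orth j i, hf.orth j k, hik, hij.symm, hjk, hκ])
      exact ⟨q, hq, (h d hd.1).trans (by simp)⟩
    obtain ⟨q₁, hq₁, hn⟩ : ∃ q, Q q ∧ ¬ Commute d q := by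
      rcases eq_or_ne (B (U.c d) (f i) + 1 * B (U.c d) (f k)) 0 with h0 | h0
      · obtain ⟨q, hq, h⟩ := hft ω hω0
        refine ⟨q, hq, fun h' => mul_ne_zero (sub_ne_zero.2 hω1) hζ ?_⟩
        linear_combination h.1 h' - h0
      · obtain ⟨q, hq, h⟩ := hft 1 one_ne_zero
        exact ⟨q, hq, fun h' => h0 (h.1 h')⟩
    obtain ⟨q₂, hq₂, hy'⟩ : ∃ q, Q q ∧ Commute d q := by
      rcases eq_or_ne (B (U.c d) (f i)) 0 with h0 | h0
      · have hj : B (U.c d) (f j) = 0 := by
          have := hdb hd hbd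
          rw [h0, zero_add] at this
          exact (mul_eq_zero.1 this).resolve_left ha
        obtain ⟨q, hq, h⟩ := hmem (hf.two i j hij (ω * a) (mul_ne_zero hω0 ha)) (by simp [hf.perp]) (by
          have e : B (U.c pb) (f i + (ω * a) • f j) = σ κ * (1 + ω) := by
            rw [hb]
            simp [hf.orth i i, hf.orth i j, hf.orth j i, hf.orth j j, hij, hij.symm]
            linear_combination σ κ * ω * hsa
          rw [e]
          exact mul_ne_zero hsκ h1ω)
        exact ⟨q, hq, (h d hd.1).2 (by simp [h0, hj])⟩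
      · obtain ⟨q, hq, h⟩ := hft (B (U.c d) (f i) / B (U.c d) (f k)) (div_ne_zero h0 hζ)
        exact ⟨q, hq, h.2 (by rw [div_mul_cancel₀ _ hζ, ← two_mul, hK.two, zero_mul])⟩
    exact hn ((hR q₂ q₁ hq₂ hq₁).1 hy')
  -- two members at `b` that differ
  have hd : ∀ {u : V}, InS U y u → B (U.c pb) u = 0 → B (U.c pc) u ≠ 0 →
      ∃ d ∈ common D x y, Commute pb d ∧ ¬ Commute pc d ∧ (B (f k) (U.c d) = 0 ↔ B (f k) u = 0) := by
    intro u hu h1 h2
    obtain ⟨d, hd, l, hl, hdc⟩ := hu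
    refine ⟨d, hd, (U.comm pb hpb.1 d hd.1).2 (by rw [hdc, map_smul, h1, smul_zero]), fun h => h2 ?_, ?_⟩
    · have := (U.comm pc hpc.1 d hd.1).1 h
      rw [hdc, map_smul, smul_eq_mul] at this
      exact (mul_eq_zero.1 this).resolve_left hl
    · rw [hdc, map_smul, smul_eq_mul, mul_eq_zero, or_iff_right hl]
  have h01 : B (f k) (e 0) + B (f k) (e 1) = 0 := by
    have := hzc
    rw [hcc, map_smul, smul_eq_mul, mul_eq_zero, or_iff_right hk', map_add, map_smul, smul_eq_mul, one_mul] at this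
    exact this
  have h2 : B (f k) (e 2) ≠ 0 := by
    intro h
    obtain ⟨α, hα⟩ := he.full (f k) hzb
    have hzz := hf.orth k k
    rw [if_pos rfl] at hzz
    conv_lhs at hzz => arg 2; rw [hα]
    simp [Fin.sum_univ_three, hS.isRefl _ _ hzb, h, ← hS.eq (f k) (e 0), ← hS.eq (f k) (e 1)] at hzz
    have h10 : B (f k) (e 1) = B (f k) (e 0) := by linear_combination h01 - B (f k) (e 0) * hK.two
    rw [h10] at hzz
    exact one_ne_zero (show (1 : F) = 0 by linear_combination -hzz + σ (B (f k) (e 0)) * B (f k) (e 0) * hK.two)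
  have hdt : ∀ t : F, t ≠ 0 → ∃ d ∈ common D x y, Commute pb d ∧ ¬ Commute pc d ∧
      (B (f k) (U.c d) = 0 ↔ B (f k) (e 0) + t * B (f k) (e 2) = 0) := by
    intro t ht
    obtain ⟨d, h1, h2, h3, h4⟩ := hd (he.two 0 2 (by decide) t ht) (by simp [he.perp]) (by
      rw [hcc]; simp [he.orth 0 0, he.orth 0 2, he.orth 1 0, he.orth 1 2, hk'])
    exact ⟨d, h1, h2, h3, h4.trans (by simp)⟩
  obtain ⟨d', hd'1, hd'2, hd'3, hd'4⟩ := hd (he.two 0 1 (by decide) ω hω0) (by simp [he.perp]) (by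
    have e' : B (U.c pc) (e 0 + ω • e 1) = σ k' * (1 + ω) := by
      rw [hcc]; simp [he.orth 0 0, he.orth 0 1, he.orth 1 0, he.orth 1 1]; ring
    rw [e']
    exact mul_ne_zero hsk' h1ω)
  have hd'z : B (f k) (U.c d') = 0 ↔ B (f k) (e 0) = 0 := by
    rw [hd'4, map_add, map_smul, smul_eq_mul]
    have h10 : B (f k) (e 1) = B (f k) (e 0) := by linear_combination h01 - B (f k) (e 0) * hK.two
    rw [h10, ← one_add_mul, mul_eq_zero, or_iff_right h1ω]
  obtain ⟨d₁, d₂, ⟨hd₁, hb₁, hc₁, hz₁⟩, hd₂, hb₂, hc₂, hz₂⟩ :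
      ∃ d₁ d₂, (d₁ ∈ common D x y ∧ Commute pb d₁ ∧ ¬ Commute pc d₁ ∧ B (f k) (U.c d₁) = 0) ∧
        d₂ ∈ common D x y ∧ Commute pb d₂ ∧ ¬ Commute pc d₂ ∧ B (f k) (U.c d₂) ≠ 0 := by
    rcases eq_or_ne (B (f k) (e 0)) 0 with h0 | h0
    · obtain ⟨d, h1, h2', h3, h4⟩ := hdt 1 one_ne_zero
      exact ⟨d', d, ⟨hd'1, hd'2, hd'3, hd'z.2 h0⟩, h1, h2', h3,
        fun h => h2 (by simpa [h0] using h4.1 h)⟩
    · obtain ⟨d, h1, h2', h3, h4⟩ := hdt _ (div_ne_zero h0 h2)
      exact ⟨d, d', ⟨h1, h2', h3, h4.2 (by rw [div_mul_cancel₀ _ h2, ← two_mul, hK.two, zero_mul])⟩,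
        hd'1, hd'2, hd'3, fun h => h0 (hd'z.1 h)⟩
  -- an isometry at `b` moving one to the other
  obtain ⟨W⟩ := hU pb hpb.1.1
  have hxW : x ∈ perp D pb := ⟨hx, hpb.1.2.1.symm, hpb.1.2.2.symm⟩
  have hyW : y ∈ perp D pb := ⟨hy, fun e => hxy (e ▸ hpb.1.2.2), hpb.2.symm⟩
  have hcW : pc ∈ perp D pb := ⟨hpc.1.1, hpcb, hcomm_bc⟩
  have hd₁W : d₁ ∈ perp D pb := ⟨hd₁.1.1, fun e => hc₁ (e ▸ hcomm_bc.symm), hb₁⟩
  have hd₂W : d₂ ∈ perp D pb := ⟨hd₂.1.1, fun e => hc₂ (e ▸ hcomm_bc.symm), hb₂⟩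
  have hC1 : B (W.c pc) (W.c d₁) ≠ 0 := fun h => hc₁ ((W.comm pc hcW d₁ hd₁W).2 h)
  have hC2 : B (W.c pc) (W.c d₂) ≠ 0 := fun h => hc₂ ((W.comm pc hcW d₂ hd₂W).2 h)
  obtain ⟨l, hl⟩ : ∃ l, l = σ (B (W.c pc) (W.c d₁))⁻¹ := ⟨_, rfl⟩
  have hl0 : l ≠ 0 := hl ▸ hne0 (inv_ne_zero hC1)
  obtain ⟨g, hg, hgd, hgC, hgD, hgfix⟩ := exists_siegel hK hS (C := l • W.c pc) (D₁ := W.c d₁)
    (D₂ := (B (l • W.c pc) (W.c d₂))⁻¹ • W.c d₂) (by simp [W.iso pc hcW]) (W.iso d₁ hd₁W)
    (by simp [W.iso d₂ hd₂W]) (by simp [hl, hK.invol, hC1])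
    (by rw [map_smul, smul_eq_mul, inv_mul_cancel₀]; simp [hne0 hl0, hC2])
  obtain ⟨h, hh, hhs⟩ := W.real g hg hgd
  have hhm : ∀ s ∈ perp D pb, h * s * h⁻¹ ∈ perp D pb := fun s hs =>
    ((conj_mem_perp hD hpb.1.1 (Subgroup.closure_mono (Set.subset_insert _ _) hh)).2 s hs).1
  have hb' : h * pb * h⁻¹ = pb :=
    (conj_mem_perp hD hpb.1.1 (Subgroup.closure_mono (Set.subset_insert _ _) hh)).1
  have hgoto : ∀ s ∈ perp D pb, ∀ r ∈ perp D pb, ∀ l' : F, g (W.c s) = l' • W.c r → h * s * h⁻¹ = r := by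
    intro s hs r hr l' he'
    obtain ⟨m, -, hm'⟩ := hhs s hs
    rw [he', smul_smul] at hm'
    exact (W.inj r hr _ (hhm s hs) _ hm').symm
  have hfix : ∀ s ∈ perp D pb, Commute pc s → Commute d₁ s → Commute d₂ s → h * s * h⁻¹ = s := by
    intro s hs h1 h2 h3
    refine hgoto s hs s hs 1 ?_
    rw [one_smul]
    refine hgfix _ ?_ ((W.comm d₁ hd₁W s hs).1 h2) ?_
    · simp [(W.comm pc hcW s hs).1 h1]
    · simp [(W.comm d₂ hd₂W s hs).1 h3]
  have hx' : h * x * h⁻¹ = x := hfix x hxW hpc.1.2.2.symm hd₁.1.2.2.symm hd₂.1.2.2.symm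
  have hy' : h * y * h⁻¹ = y := hfix y hyW hpc.2.symm hd₁.2.symm hd₂.2.symm
  have hc' : h * pc * h⁻¹ = pc := hgoto pc hcW pc hcW 1 (by
    rw [one_smul]
    exact smul_right_injective V hl0 (by simpa using hgC))
  have hd' : h * d₁ * h⁻¹ = d₂ := hgoto d₁ hd₁W d₂ hd₂W _ hgD
  have hinv : ∀ {s r : G}, h * s * h⁻¹ = r → h⁻¹ * r * h = s := fun e => by rw [← e]; group
  have hc2 : ∀ {u v : G}, Commute u v ↔ Commute (h⁻¹ * u * h) (h⁻¹ * v * h) := fun {u v} => by
    have := Commute.conj_iff h⁻¹ (a := u) (b := v)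
    rw [inv_inv] at this
    exact this.symm
  have hQ : ∀ q, Q q → Q (h⁻¹ * q * h) := by
    rintro q ⟨⟨⟨hqD, hqx, hxq⟩, hyq⟩, hcq, hbq⟩
    have hm : h⁻¹ * q * h ∈ D := by simpa using hD.conj h⁻¹ q hqD
    refine ⟨⟨⟨hm, fun e => hqx ?_, ?_⟩, ?_⟩, ?_, fun h' => hbq ?_⟩
    · rw [← hx', ← e]; group
    · rw [← hinv hx']; exact hc2.1 hxq
    · rw [← hinv hy']; exact hc2.1 hyq
    · rw [← hinv hc']; exact hc2.1 hcq
    · rw [← hinv hb'] at h'; exact hc2.2 h'
  refine hneg hd₂ hb₂ hz₂ fun q q' hq hq' => ?_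
  have := hpos hd₁ hb₁ hz₁ _ _ (hQ q hq) (hQ q' hq')
  rw [← hinv hd', ← hc2, ← hc2] at this
  exact this

end Cfsg.Lib.Fischer.Thm.Unitary

namespace Cfsg.Lib.Fischer.Thm

open Module Cfsg Cfsg.Lib.Fischer Cfsg.Lib.Fischer.RadicalAbelian Cfsg.Lib.Linear.Herm

universe u

/-- Unitary neighbourhoods occur in dimension four and six only. -/
theorem unitaryStep : UnitaryStep.{u} := by
  intro G _ _ D hFi x hx _ n hn hPSU hn4
  by_contra hn6
  obtain ⟨F, instF, instFin, hcard, e, he⟩ := hPSU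
  have hF : Fintype.card F = 2 ^ 2 := by rw [hcard]; norm_num
  have hD := hFi.toTrans
  obtain ⟨U⟩ := Unitary.exists_chart hFi hx hF hn e he
  have hU : ∀ d ∈ D, Nonempty (Unitary.Chart D d (hB hF n)) := fun d hd => by
    obtain ⟨g, rfl⟩ := hD.trans x hx d hd
    exact U.conj hD g
  have hK := fourField hF
  have hS := hB_isSymm hF n
  have hND := hB_nondegenerate hF n
  have hdim : finrank F (Fin n → F) = n := finrank_fin_fun F
  obtain ⟨y, hy, hxy⟩ := exists_not_commute hFi hx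
  obtain ⟨p, hp⟩ := common_nonempty hFi hx hy hxy
  by_cases h5 : n = 5
  · exact Unitary.not_dim_five hK hS hND hD hU hx U hxy hy (hdim.trans h5) hp
  · have hIn : Unitary.InS U y (U.c p) := ⟨p, hp, 1, one_ne_zero, (one_smul _ _).symm⟩
    obtain ⟨f, hf⟩ := Unitary.exists_frame hK hS hND hD hU hx U hxy hy hIn (U.iso p hp.1)
      (m := n - 2) (by omega) (by omega)
    exact hf.not_five hK hS hND hD hU hx U hxy hy hIn (U.iso p hp.1) (by omega)

end Cfsg.Lib.Fischer.Thm
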