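import Cfsg.Agent.Lib.Fischer.Thm.Unitary.Lines
import Cfsg.Agent.Lib.Fischer.Polar.Herm

/-!
# A frame of common neighbours

The common neighbours commuting with one of them, `b`, contain all points of weight two of some orthonormal
family perpendicular to `b`. Hence there is no such family of five members.
-/

set_option autoImplicit false
set_option linter.unusedSectionVars false

namespace Cfsg.Lib.Fischer.Thm.Unitary

open Module Cfsg Cfsg.Lib.Fischer Cfsg.Lib.Fischer.Relations Cfsg.Lib.Linear.Herm Cfsg.Agent.S1631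
  Cfsg.Lib.Fischer.RadicalAbelian

section Field

variable {F : Type*} [Field F] [Fintype F] {σ : F →+* F} (hK : FourField F σ)
include hK

theorem exists_omega : ∃ ω : F, ω ≠ 0 ∧ ω ≠ 1 ∧ σ ω = ω * ω ∧ ω * ω + ω + 1 = 0 := by
  obtain ⟨ω, hω⟩ : ∃ ω : F, σ ω ≠ ω := by
    by_contra h
    push Not at h
    exact hK.ne_id (RingHom.ext h)
  have h0 : ω ≠ 0 := fun e => hω (by rw [e, map_zero])
  have h1 : ω ≠ 1 := fun e => hω (by rw [e, map_one])
  refine ⟨ω, h0, h1, hK.sq ω, ?_⟩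
  have : (ω - 1) * (ω * ω + ω + 1) = 0 := by linear_combination hK.cube ω h0
  exact (mul_eq_zero.1 this).resolve_left (sub_ne_zero.2 h1)

theorem cases_omega {ω : F} (h0 : ω * ω + ω + 1 = 0) {a : F} (ha : a ≠ 0) :
    a = 1 ∨ a = ω ∨ a = ω * ω := by
  have : (a - 1) * ((a - ω) * (a - ω * ω)) = 0 := by
    linear_combination hK.cube a ha + (a * ω - a * a) * h0 + (-(ω - 1)) * h0
  rcases mul_eq_zero.1 this with h | h
  · exact Or.inl (sub_eq_zero.1 h)
  rcases mul_eq_zero.1 h with h | h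
  · exact Or.inr (Or.inl (sub_eq_zero.1 h))
  · exact Or.inr (Or.inr (sub_eq_zero.1 h))

theorem norm_one {a : F} (ha : a ≠ 0) : σ a * a = 1 := by rw [hK.sq]; exact hK.cube a ha

end Field

variable {G : Type*} [Group G] [Finite G] {F V : Type*} [Field F] [Fintype F] [AddCommGroup V] [Module F V]
  [FiniteDimensional F V] {σ : F →+* F} {B : V →ₛₗ[σ] V →ₗ[F] F}
variable (hK : FourField F σ) (hS : B.IsSymm) (hB : B.Nondegenerate)
include hK hS hB

/-- An orthonormal family perpendicular to an isotropic vector, spanning its perp with it. -/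
theorem exists_base {b : V} (hb : B b b = 0) (hb0 : b ≠ 0) {m : ℕ} (hm : m + 2 = finrank F V) :
    ∃ e : Fin m → V, Five.Orth B e ∧ (∀ i, B b (e i) = 0) ∧
      ∀ v, B b v = 0 → ∃ α : F, v = α • b + ∑ i, B (e i) v • e i := by
  obtain ⟨ω, hω0, hω1, hsω, hω⟩ := exists_omega hK
  obtain ⟨u, hu⟩ := Linear.exists_one hK hS hB hb0
  have hub : B u b = 1 := by rw [← hS.eq b u, hu, map_one]
  obtain ⟨s, hs⟩ : ∃ s : F, s + σ s = B u u := by
    rcases fixed_cases hK (hS.eq u u) with e | e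
    · exact ⟨0, by rw [e, map_zero, add_zero]⟩
    · exact ⟨ω, by rw [e, hsω]; linear_combination hω - hK.two⟩
  obtain ⟨b', hb'⟩ : ∃ b', b' = u + s • b := ⟨_, rfl⟩
  have hbb' : B b b' = 1 := by simp [hb', hu, hb]
  have hb'b : B b' b = 1 := by rw [← hS.eq b b', hbb', map_one]
  have hb'' : B b' b' = 0 := by
    simp only [hb', map_add, LinearMap.add_apply, LinearMap.map_smulₛₗ, LinearMap.smul_apply, map_smul,
      smul_eq_mul, hb, hu, hub, mul_zero, mul_one, add_zero]
    linear_combination hs + B u u * hK.two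
  obtain ⟨f₁, hf₁⟩ : ∃ f, f = b + ω • b' := ⟨_, rfl⟩
  obtain ⟨f₂, hf₂⟩ : ∃ f, f = b + σ ω • b' := ⟨_, rfl⟩
  have hsum : ω + σ ω = 1 := by rw [hsω]; linear_combination hω - hK.two
  have h11 : B f₁ f₁ = 1 := by
    simp [hf₁, hb, hb'', hbb', hb'b]
    linear_combination hsum
  have h22 : B f₂ f₂ = 1 := by
    simp [hf₂, hb, hb'', hbb', hb'b, hK.invol]
    linear_combination hsum
  have h12 : B f₁ f₂ = 0 := by
    simp [hf₁, hf₂, hb, hb'', hbb', hb'b]
    linear_combination σ ω * hK.two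
  have h21 : B f₂ f₁ = 0 := hS.isRefl _ _ h12
  have hb_eq : ∀ v, B f₁ v = 0 → B f₂ v = 0 → B b v = 0 ∧ B b' v = 0 := by
    intro v h1 h2
    have e' : B b' v = 0 := by
      have : B (f₁ + f₂) v = 0 := by rw [map_add, LinearMap.add_apply, h1, h2, add_zero]
      simp only [hf₁, hf₂, map_add, LinearMap.add_apply, LinearMap.map_smulₛₗ, LinearMap.smul_apply,
        smul_eq_mul, hK.invol] at this
      linear_combination this - B b v * hK.two - B b' v * hsum
    rw [hf₁, map_add, LinearMap.add_apply, LinearMap.map_smulₛₗ, LinearMap.smul_apply, e', smul_zero,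
      add_zero] at h1
    exact ⟨h1, e'⟩
  have hext : ∀ k, k ≤ m → ∃ e : Fin k → V,
      Five.Orth B (Fin.cons f₁ (Fin.cons f₂ e) : Fin (k + 2) → V) := by
    intro k hk
    induction k with
    | zero =>
      exact ⟨Fin.elim0, fun i j => by fin_cases i <;> fin_cases j <;> simp [h11, h22, h12, h21]⟩
    | succ k ih =>
      obtain ⟨e, he⟩ := ih (by omega)
      obtain ⟨w, hw, hp⟩ := Polar.exists_unit hK hS hB (k := k + 2) (by omega) he
      refine ⟨Fin.snoc e w, ?_⟩
      rw [Fin.cons_snoc_eq_snoc_cons, Fin.cons_snoc_eq_snoc_cons]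
      intro i j
      refine Fin.lastCases ?_ (fun i => ?_) i <;> refine Fin.lastCases ?_ (fun j => ?_) j
      · simp [hw]
      · simp [hS.isRefl _ _ (hp j), (Fin.castSucc_lt_last j).ne']
      · simp [hp i, (Fin.castSucc_lt_last i).ne]
      · simp [he i j]
  obtain ⟨e, he⟩ := hext m le_rfl
  have hperp : ∀ i, B b (e i) = 0 ∧ B b' (e i) = 0 := fun i => by
    have h1 := he 0 i.succ.succ
    have h2 := he (Fin.succ 0) i.succ.succ
    simp [(Fin.succ_ne_zero _).symm] at h1 h2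
    exact hb_eq _ h1 h2
  have hoe : Five.Orth B e := fun i j => by
    have := he i.succ.succ j.succ.succ
    simpa using this
  refine ⟨e, hoe, fun i => (hperp i).1, fun v hv => ?_⟩
  obtain ⟨w, hw⟩ : ∃ w, w = v - B b' v • b - ∑ i, B (e i) v • e i := ⟨_, rfl⟩
  have hwe : ∀ i, B (e i) w = 0 := fun i => by
    have : B (e i) b = 0 := hS.isRefl _ _ (hperp i).1
    simp [hw, map_sum, hoe i, this]
  have hwb : B b w = 0 := by simp [hw, map_sum, hv, hb, fun i => (hperp i).1]
  have hwb' : B b' w = 0 := by simp [hw, map_sum, hb'b, fun i => (hperp i).2]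
  have hw0 : w = 0 := by
    have hli : LinearIndependent F (Fin.cons f₁ (Fin.cons f₂ e) : Fin (m + 2) → V) := by
      rw [Fintype.linearIndependent_iff]
      intro g hg i
      have := congrArg (B ((Fin.cons f₁ (Fin.cons f₂ e) : Fin (m + 2) → V) i)) hg
      simpa [map_sum, he i] using this
    have hspan := hli.span_eq_top_of_card_eq_finrank (by rw [Fintype.card_fin, hm])
    refine hB.2 w fun a => ?_
    have hle : Submodule.span F (Set.range (Fin.cons f₁ (Fin.cons f₂ e) : Fin (m + 2) → V)) ≤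
        LinearMap.ker (B w) := by
      rw [Submodule.span_le]
      rintro _ ⟨i, rfl⟩
      refine hS.isRefl _ _ ?_
      refine Fin.cases ?_ (fun i => Fin.cases ?_ (fun i => ?_) i) i
      · simp [hf₁, hwb, hwb']
      · simp [hf₂, hwb, hwb']
      · simp [hwe]
    exact hS.isRefl _ _ (hle (hspan ▸ Submodule.mem_top : a ∈ _))
  refine ⟨B b' v, ?_⟩
  rw [← sub_eq_zero, ← sub_sub, ← hw, hw0]

variable {D : Set G} (hD : Trans D) (hU : ∀ d ∈ D, Nonempty (Chart D d B)) {x y : G} (hx : x ∈ D)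
  (U : Chart D x B) (hxy : ¬ Commute x y) (hy : y ∈ D)
include hD hU hx hxy hy

/-- An orthonormal family perpendicular to `b` whose points of weight two are common neighbours. -/
structure Frame (U : Chart D x B) (y : G) (b : V) {m : ℕ} (e : Fin m → V) : Prop where
  orth : Five.Orth B e
  perp : ∀ i, B b (e i) = 0
  two : ∀ i j, i ≠ j → ∀ a : F, a ≠ 0 → InS U y (e i + a • e j)
  full : ∀ v, B b v = 0 → ∃ α : F, v = α • b + ∑ i, B (e i) v • e i

theorem exists_frame {b : V} (hb : InS U y b) (hbb : B b b = 0) {m : ℕ} (h3 : 3 ≤ m)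
    (hm : m + 2 = finrank F V) : ∃ e : Fin m → V, Frame U y b e := by
  classical
  obtain ⟨ω, hω0, hω1, hsω, hω⟩ := exists_omega hK
  have hb0 : b ≠ 0 := by
    obtain ⟨p, hp, k, hk, hpc⟩ := hb
    exact fun e => U.ne p hp.1 (by rw [hpc, e, smul_zero])
  obtain ⟨e, he, hbe, hfull⟩ := exists_base hK hS hB hbb hb0 hm
  have heb : ∀ i, B (e i) b = 0 := fun i => hS.isRefl _ _ (hbe i)
  let i₀ : Fin m := ⟨0, by omega⟩
  let i₁ : Fin m := ⟨1, by omega⟩
  have h01 : i₀ ≠ i₁ := by simp [i₀, i₁]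
  have hlift : ∀ i j, i ≠ j → ∀ a : F, a ≠ 0 → ∃ t : F, InS U y (e i + a • e j + t • b) := by
    intro i j hij a ha
    refine InS.exists_lift hK hS hB hD hU hx U hxy hy hb ?_ (by simp [hbe]) fun r h => ?_
    · simp [he i i, he j j, he i j, he j i, hij, hij.symm]
      linear_combination norm_one hK ha + hK.two
    · have := congrArg (B (e i)) h
      simp [he i i, he i j, hij, heb] at this
  obtain ⟨t₁, ht₁⟩ := hlift i₀ i₁ h01 1 one_ne_zero
  obtain ⟨t₂, ht₂⟩ := hlift i₀ i₁ h01 ω hω0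
  choose t ht using fun j (h : i₀ ≠ j) => hlift i₀ j h 1 one_ne_zero
  obtain ⟨l₁, hl₁⟩ : ∃ l, l = (t₁ + t₂) / (1 + ω) := ⟨_, rfl⟩
  have h1ω : 1 + ω ≠ 0 := fun h => hω1 (by linear_combination h - hK.two)
  let l : Fin m → F := fun j =>
    if h : i₀ = j then t₁ + l₁ else if j = i₁ then l₁ else t j h + (t₁ + l₁)
  let e' : Fin m → V := fun j => e j + l j • b
  have he' : Five.Orth B e' := fun i j => by
    simp [e', he i j, heb, hbe, hbb]
  have hW : ∀ i j a, InS U y (e i + a • e j + (l i + a * l j) • b) → InS U y (e' i + a • e' j) := by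
    intro i j a h
    refine h.of_eq U one_ne_zero ?_
    rw [one_smul]
    simp only [e', smul_add, smul_smul, add_smul]
    abel
  have hl0 : l i₀ = t₁ + l₁ := by simp [l]
  have hl1 : l i₁ = l₁ := by simp [l, h01]
  have hA : InS U y (e' i₀ + (1 : F) • e' i₁) := hW _ _ _ (by
    convert ht₁ using 3
    rw [hl0, hl1]; linear_combination l₁ * hK.two)
  have hB' : InS U y (e' i₀ + ω • e' i₁) := hW _ _ _ (by
    convert ht₂ using 3
    rw [hl0, hl1, hl₁]; field_simp; linear_combination (t₁ + ω * t₁) * hK.two)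
  have hC : ∀ j, i₀ ≠ j → j ≠ i₁ → InS U y (e' i₀ + (1 : F) • e' j) := fun j h h' => hW _ _ _ (by
    convert ht j h using 3
    simp only [l, hl0, dif_neg h, if_neg h']
    linear_combination (t₁ + l₁) * hK.two)
  have hperp' : ∀ i, B b (e' i) = 0 := fun i => by simp [e', hbe, hbb]
  have hfull' : ∀ v, B b v = 0 → ∃ α : F, v = α • b + ∑ i, B (e' i) v • e' i := by
    intro v hv
    obtain ⟨α, hα⟩ := hfull v hv
    refine ⟨α - ∑ i, B (e i) v * l i, ?_⟩
    have : ∀ i, B (e' i) v = B (e i) v := fun i => by simp [e', hv]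
    simp only [this, e', smul_add, smul_smul, Finset.sum_add_distrib, ← Finset.sum_smul, sub_smul]
    conv_lhs => rw [hα]
    abel
  clear_value e'
  have hsymm : ∀ i j (a : F), a ≠ 0 → InS U y (e' i + a • e' j) → InS U y (e' j + a⁻¹ • e' i) := by
    intro i j a ha h
    refine h.of_eq U (inv_ne_zero ha) ?_
    rw [smul_add a⁻¹ (e' i) (a • e' j), smul_smul, inv_mul_cancel₀ ha, one_smul, add_comm]
  have hjoin : ∀ i j k (a a' : F), i ≠ j → j ≠ k → i ≠ k → a ≠ 0 → InS U y (e' i + a • e' j) →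
      InS U y (e' j + a' • e' k) → InS U y (e' i + (a * a') • e' k) := by
    intro i j k a a' hij hjk hik ha h h'
    have hsa : σ a ≠ 0 := fun h0 => ha (σ.injective (by rw [h0, map_zero]))
    have := InS.third hK hS hB hD hU hx U hxy hy h h'
    have hBv : B (e' i + a • e' j) (e' j + a' • e' k) = σ a := by
      simp [he' i j, he' i k, he' j j, he' j k, hij, hjk, hik]
    rw [hBv] at this
    refine this.of_eq U (inv_ne_zero hsa) ?_
    rw [eq_inv_smul_iff₀ hsa]
    match_scalars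
    · ring
    · linear_combination a' * norm_one hK ha
    · linear_combination -(norm_one hK ha) - hK.two
  have hpair : ∀ a : F, a ≠ 0 → InS U y (e' i₀ + a • e' i₁) := by
    intro a ha
    rcases cases_omega hK hω ha with rfl | rfl | rfl
    · exact hA
    · exact hB'
    · have := InS.third hK hS hB hD hU hx U hxy hy hA hB'
      have hBv : B (e' i₀ + (1 : F) • e' i₁) (e' i₀ + ω • e' i₁) = 1 + ω := by
        simp [he' i₀ i₁, he' i₁ i₁, he' i₀ i₀, he' i₁ i₀, h01, h01.symm]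
      rw [hBv] at this
      refine this.of_eq U (mul_ne_zero hω0 hω0) ?_
      match_scalars
      · linear_combination -(hK.cube ω hω0) - ω * ω * hK.two
      · linear_combination -(ω * ω * ω) * hK.two
  have h1j : ∀ j, i₀ ≠ j → j ≠ i₁ → ∀ a : F, a ≠ 0 → InS U y (e' i₁ + a • e' j) := by
    intro j h h' a ha
    have := hjoin i₁ i₀ j a 1 h01.symm h h'.symm ha
      (by simpa using hsymm _ _ a⁻¹ (inv_ne_zero ha) (hpair _ (inv_ne_zero ha))) (hC j h h')
    rwa [mul_one] at this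
  have h0j : ∀ j, i₀ ≠ j → ∀ a : F, a ≠ 0 → InS U y (e' i₀ + a • e' j) := by
    intro j h a ha
    by_cases h' : j = i₁
    · exact h' ▸ hpair a ha
    have := hjoin i₀ i₁ j 1 a h01 (Ne.symm h') h one_ne_zero hA (h1j j h h' a ha)
    rwa [one_mul] at this
  refine ⟨e', he', hperp', fun i j hij a ha => ?_, hfull'⟩
  by_cases hi : i₀ = i
  · subst hi; exact h0j j hij a ha
  have hi' : InS U y (e' i + a • e' i₀) := by
    simpa using hsymm _ _ a⁻¹ (inv_ne_zero ha) (h0j i hi _ (inv_ne_zero ha))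
  by_cases hj : i₀ = j
  · subst hj; exact hi'
  have := hjoin i i₀ j a 1 (Ne.symm hi) hj hij ha hi' (h0j j hj 1 one_ne_zero)
  rwa [mul_one] at this

/-- No frame of five members. -/
theorem Frame.not_five {b : V} (hb : InS U y b) (hbb : B b b = 0) {m : ℕ} {e : Fin m → V}
    (hf : Frame U y b e) (h5 : 5 ≤ m) : False := by
  obtain ⟨ω, hω0, hω1, hsω, hω⟩ := exists_omega hK
  obtain ⟨e₅, he₅⟩ : ∃ e₅ : Fin 5 → V, e₅ = fun i => e (Fin.castLE h5 i) := ⟨_, rfl⟩
  have ho : Five.Orth B e₅ := fun i j => by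
    rw [he₅]
    simpa using hf.orth (Fin.castLE h5 i) (Fin.castLE h5 j)
  have hbe : ∀ i, B b (e₅ i) = 0 := fun i => by rw [he₅]; exact hf.perp _
  have heb : ∀ i, B (e₅ i) b = 0 := fun i => hS.isRefl _ _ (hbe i)
  have htwo : ∀ i j, i ≠ j → ∀ a : F, a ≠ 0 → InS U y (e₅ i + a • e₅ j) := fun i j hij a ha => by
    rw [he₅]; exact hf.two _ _ (fun h => hij (Fin.castLE_injective h5 h)) a ha
  obtain ⟨v, hv⟩ : ∃ v : V, v = e₅ 0 + e₅ 1 + e₅ 2 + e₅ 3 := ⟨_, rfl⟩
  have hvv : B v v = 0 := by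
    simp [hv, ho 0 0, ho 1 1, ho 2 2, ho 3 3, ho 0 1, ho 0 2, ho 0 3, ho 1 0, ho 1 2, ho 1 3, ho 2 0, ho 2 1,
      ho 2 3, ho 3 0, ho 3 1, ho 3 2]
    linear_combination 2 * hK.two
  have hbv : B b v = 0 := by simp [hv, hbe]
  have hne : ∀ r : F, v ≠ r • b := fun r h => by
    have := congrArg (B (e₅ 0)) h
    simp [hv, ho 0 0, ho 0 1, ho 0 2, ho 0 3, heb] at this
  obtain ⟨t, ht⟩ := InS.exists_lift hK hS hB hD hU hx U hxy hy hb hvv hbv hne
  have step : ∀ (i j : Fin 5) (a : F) (w w' : V), i ≠ j → a ≠ 0 → InS U y (w + t • b) →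
      w' = w + B (e₅ i + a • e₅ j) w • (e₅ i + a • e₅ j) → InS U y (w' + t • b) := by
    intro i j a w w' hij ha hw hw'
    have := InS.third hK hS hB hD hU hx U hxy hy (htwo i j hij a ha) hw
    have hz : B (e₅ i + a • e₅ j) (w + t • b) = B (e₅ i + a • e₅ j) w := by simp [heb]
    rw [hz] at this
    rw [hw', add_right_comm]
    exact this
  obtain ⟨w₁, hw₁⟩ : ∃ w, w = e₅ 0 + e₅ 1 + e₅ 2 + ω • e₅ 4 := ⟨_, rfl⟩
  obtain ⟨w₂, hw₂⟩ : ∃ w, w = e₅ 0 + e₅ 1 + e₅ 2 + ω • e₅ 3 := ⟨_, rfl⟩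
  obtain ⟨w₃, hw₃⟩ : ∃ w, w = (ω * ω) • e₅ 0 + ω • e₅ 1 + e₅ 2 + ω • e₅ 3 := ⟨_, rfl⟩
  have h3 : ω * ω * ω = 1 := hK.cube ω hω0
  have s1 : InS U y (w₁ + t • b) := step 3 4 ω v w₁ (by decide) hω0 ht (by
    simp [hv, hw₁, ho 3 0, ho 3 1, ho 3 2, ho 3 3, ho 4 0, ho 4 1, ho 4 2, ho 4 3]
    match_scalars
    all_goals first | ring1 | linear_combination -hK.two)
  have s2 : InS U y (w₂ + t • b) := step 3 4 1 w₁ w₂ (by decide) one_ne_zero s1 (by
    simp [hw₁, hw₂, ho 3 0, ho 3 1, ho 3 2, ho 3 4, ho 4 0, ho 4 1, ho 4 2, ho 4 4]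
    match_scalars
    all_goals first | ring1 | linear_combination -ω * hK.two)
  have s3 : InS U y (w₃ + t • b) := step 0 1 ω w₂ w₃ (by decide) hω0 s2 (by
    simp [hw₂, hw₃, ho 0 0, ho 0 1, ho 0 2, ho 0 3, ho 1 0, ho 1 1, ho 1 2, ho 1 3, hsω]
    match_scalars
    · linear_combination -hK.two
    · linear_combination -h3 - hK.two
    all_goals ring1)
  have s4 : InS U y (ω • v + t • b) := step 0 2 (ω * ω) w₃ (ω • v) (by decide) (mul_ne_zero hω0 hω0) s3 (by
    simp [hw₃, hv, ho 0 0, ho 0 1, ho 0 2, ho 0 3, ho 2 0, ho 2 1, ho 2 2, ho 2 3, hsω]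
    match_scalars
    all_goals first
      | ring1
      | linear_combination (-ω) * h3 - ω * ω * hK.two
      | linear_combination -(ω * h3) - hK.two - (ω * ω * ω + 1) * h3)
  have ht0 : t = 0 := by
    have h := InS.lift_unique hK hS hB hD hU hx U hxy hy (b := b) (u := ω • v) (t := t) (t' := ω * t) hb
      (by simp [hbv]) hbb (fun r e => hne (r / ω) (by
        rw [div_eq_inv_mul, mul_smul, ← e, smul_smul, inv_mul_cancel₀ hω0, one_smul])) s4
      (ht.of_eq U hω0 (by rw [smul_add, smul_smul]))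
    exact ((mul_eq_zero.1 (show (1 - ω) * t = 0 by linear_combination h)).resolve_left
      (sub_ne_zero.2 (Ne.symm hω1)))
  rw [ht0, zero_smul, add_zero] at ht
  refine InS.not_three hK hS hB hD hU hx U hxy hy (u := e₅ 0 + (1 : F) • e₅ 1) (v := e₅ 2 + (1 : F) • e₅ 3)
    (s := 1) ?_ ?_ one_ne_zero (htwo 0 1 (by decide) 1 one_ne_zero) (htwo 2 3 (by decide) 1 one_ne_zero)
    (ht.of_eq U one_ne_zero ?_)
  · simp [ho 0 2, ho 0 3, ho 1 2, ho 1 3]
  · intro r h
    have := congrArg (B (e₅ 2)) h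
    simp [ho 2 0, ho 2 1, ho 2 2, ho 2 3] at this
  · rw [hv, one_smul, one_smul, one_smul, one_smul]
    abel

/-- The members of a frame of three are the only common neighbours commuting with `b`. -/
theorem Frame.support {b v : V} (hb : InS U y b) (hbb : B b b = 0) {e : Fin 3 → V} (hf : Frame U y b e)
    (hv : InS U y v) (hbv : B b v = 0) (hne : ∀ r : F, v ≠ r • b) :
    ∃ i j k : Fin 3, i ≠ j ∧ i ≠ k ∧ j ≠ k ∧ ∃ κ a : F, κ ≠ 0 ∧ a ≠ 0 ∧ v = κ • (e i + a • e j) := by
  obtain ⟨α, hα⟩ := hf.full v hbv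
  have hvv : B v v = 0 := by
    obtain ⟨p, hp, k, hk, hpc⟩ := hv
    have := U.iso p hp.1
    rw [hpc] at this
    simpa [hk] using this
  obtain ⟨c, hc⟩ : ∃ c : Fin 3 → F, c = fun i => B (e i) v := ⟨_, rfl⟩
  have hcv : v = α • b + ∑ i, c i • e i := by rw [hc]; exact hα
  have heb : ∀ i, B (e i) b = 0 := fun i => hS.isRefl _ _ (hf.perp i)
  have hnorm : σ (c 0) * c 0 + σ (c 1) * c 1 + σ (c 2) * c 2 = 0 := by
    have h := hvv
    rw [hcv] at h
    simp only [Fin.sum_univ_three] at h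
    simp [hbb, hf.perp, heb, hf.orth 0 0, hf.orth 0 1, hf.orth 0 2, hf.orth 1 0, hf.orth 1 1, hf.orth 1 2,
      hf.orth 2 0, hf.orth 2 1, hf.orth 2 2] at h
    linear_combination h
  obtain ⟨i, j, k, hij, hik, hjk, hi, hj, hk⟩ :
      ∃ i j k : Fin 3, i ≠ j ∧ i ≠ k ∧ j ≠ k ∧ c i ≠ 0 ∧ c j ≠ 0 ∧ c k = 0 := by
    rcases eq_or_ne (c 0) 0 with h0 | h0 <;> rcases eq_or_ne (c 1) 0 with h1 | h1 <;>
      rcases eq_or_ne (c 2) 0 with h2 | h2
    · exact absurd (by rw [hcv, Fin.sum_univ_three, h0, h1, h2]; simp) (hne α)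
    · exfalso; simp [h0, h1, norm_one hK h2] at hnorm
    · exfalso; simp [h0, h2, norm_one hK h1] at hnorm
    · exact ⟨1, 2, 0, by decide, by decide, by decide, h1, h2, h0⟩
    · exfalso; simp [h1, h2, norm_one hK h0] at hnorm
    · exact ⟨0, 2, 1, by decide, by decide, by decide, h0, h2, h1⟩
    · exact ⟨0, 1, 2, by decide, by decide, by decide, h0, h1, h2⟩
    · exfalso
      rw [norm_one hK h0, norm_one hK h1, norm_one hK h2] at hnorm
      exact one_ne_zero (show (1 : F) = 0 by linear_combination hnorm - hK.two)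
  have hs : ∑ l, c l • e l = c i • (e i + (c j / c i) • e j) := by
    rw [smul_add, smul_smul, mul_div_cancel₀ _ hi]
    have : (Finset.univ : Finset (Fin 3)) = {i, j, k} :=
      (by decide : ∀ i j k : Fin 3, i ≠ j → i ≠ k → j ≠ k → (Finset.univ : Finset (Fin 3)) = {i, j, k})
        i j k hij hik hjk
    rw [this, Finset.sum_insert (by simp [hij, hik]), Finset.sum_insert (by simp [hjk]),
      Finset.sum_singleton, hk, zero_smul, add_zero]
  have h2 := hf.two i j hij _ (div_ne_zero hj hi)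
  have hα0 : α / c i = 0 := by
    refine InS.lift_unique hK hS hB hD hU hx U hxy hy hb (u := e i + (c j / c i) • e j) ?_ hbb ?_ ?_ ?_
    · simp [hf.perp]
    · intro r h
      have := congrArg (B (e i)) h
      simp [hf.orth i i, hf.orth i j, hij, heb] at this
    · exact hv.of_eq U (inv_ne_zero hi) (by
        rw [hcv, hs]; simp [smul_smul, inv_mul_cancel₀ hi, inv_mul_cancel_left₀ hi, div_eq_inv_mul, add_comm])
    · exact h2.of_eq U one_ne_zero (by rw [zero_smul, add_zero, one_smul])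
  refine ⟨i, j, k, hij, hik, hjk, c i, c j / c i, hi, div_ne_zero hj hi, ?_⟩
  rw [hcv, hs, (div_eq_zero_iff.1 hα0).resolve_right hi, zero_smul, zero_add]

end Cfsg.Lib.Fischer.Thm.Unitary
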