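import Cfsg.Agent.Lib.Fischer.Thm.Unitary.Chart

/-!
# Common neighbours as a set of points meeting every line in none or two

For a member `y` not commuting with `x`, the points of the common neighbours of `x` and `y` meet each
totally isotropic line in none or two points and are closed under the third point of a hyperbolic line.
-/

set_option autoImplicit false
set_option linter.unusedSectionVars false

namespace Cfsg.Lib.Fischer.Thm.Unitary

open Module Cfsg Cfsg.Lib.Fischer Cfsg.Lib.Fischer.Relations Cfsg.Lib.Linear.Herm Cfsg.Agent.S1631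

variable {G : Type*} [Group G] [Finite G] {F V : Type*} [Field F] [Fintype F] [AddCommGroup V] [Module F V]
  [FiniteDimensional F V] {σ : F →+* F} {B : V →ₛₗ[σ] V →ₗ[F] F}

/-- `c` and `c'` commute with the same common neighbours of `a` and `b`. -/
def Twin (D : Set G) (a b c c' : G) : Prop :=
  ∀ w ∈ D, w ≠ a → w ≠ b → Commute a w → Commute b w → (Commute c w ↔ Commute c' w)

theorem Twin.symm {D : Set G} {a b c c' : G} (h : Twin D a b c c') : Twin D b a c c' :=
  fun w hw h1 h2 h3 h4 => h w hw h2 h1 h4 h3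

variable (hK : FourField F σ) (hS : B.IsSymm) (hB : B.Nondegenerate)
include hK hS hB

/-- Twins are the further points of the line. -/
theorem Chart.twin_iff {D : Set G} {a : G} (U : Chart D a B) {b c c' : G} (hb : b ∈ perp D a)
    (hc : c ∈ perp D a) (hc' : c' ∈ perp D a) (hcb : c ≠ b) (hc'b : c' ≠ b) (h1 : Commute b c)
    (h2 : Commute b c') :
    Twin D a b c c' ↔ ∃ α β : F, U.c c' = α • U.c b + β • U.c c := by
  have hbc : B (U.c b) (U.c c) = 0 := (U.comm b hb c hc).1 h1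
  have hbc' : B (U.c b) (U.c c') = 0 := (U.comm b hb c' hc').1 h2
  constructor
  · intro h
    by_contra hn
    rcases eq_or_ne (B (U.c c') (U.c c)) 0 with h0 | h0
    swap
    · exact h0 ((U.comm c' hc' c hc).1
        ((h c hc.1 hc.2.1 hcb hc.2.2 h1).1 (Commute.refl c)))
    have hmem : U.c c' ∉ Submodule.span F ({U.c b, U.c c} : Set V) := fun hm => by
      obtain ⟨α, β, e⟩ := Submodule.mem_span_pair.1 hm
      exact hn ⟨α, β, e.symm⟩
    obtain ⟨u, hu, hu'⟩ := exists_perp_ne_zero hK.invol hS hB _ hmem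
    have hu'' : B u (U.c c') ≠ 0 := fun e => hu' (hS.isRefl _ _ e)
    obtain ⟨s, hs⟩ : ∃ s : F, s + σ s = B u u := by
      rcases fixed_cases hK (hS.eq u u) with e | e
      · exact ⟨0, by rw [e, map_zero, add_zero]⟩
      obtain ⟨ω, hω⟩ := Linear.exists_omega hK hS hB
      refine ⟨ω, ?_⟩
      rw [e]
      refine (fixed_cases hK (by rw [map_add, hK.invol, add_comm])).resolve_left fun e' => hω ?_
      linear_combination e' - ω * hK.two
    obtain ⟨r, hr⟩ : ∃ r, r = u + (s / B u (U.c c')) • U.c c' := ⟨_, rfl⟩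
    have hr0 : B r r = 0 := by
      have hms : σ (s / B u (U.c c')) * B (U.c c') u = σ s := by
        rw [← hS.eq u (U.c c'), ← map_mul, div_mul_cancel₀ _ hu'']
      simp only [hr, map_add, LinearMap.add_apply, LinearMap.map_smulₛₗ, LinearMap.smul_apply, map_smul,
        smul_eq_mul, U.iso c' hc', mul_zero, add_zero, hms, div_mul_cancel₀ _ hu'']
      linear_combination hs + B u u * hK.two
    have hrb : B (U.c b) r = 0 := by
      rw [hr, map_add, map_smul, hu _ (Submodule.subset_span (by simp)), hbc', smul_zero, add_zero]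
    have hrc : B (U.c c) r = 0 := by
      rw [hr, map_add, map_smul, hu _ (Submodule.subset_span (by simp)), hS.isRefl _ _ h0, smul_zero, add_zero]
    have hrc' : B (U.c c') r ≠ 0 := by
      rw [hr, map_add, map_smul, U.iso c' hc', smul_zero, add_zero]
      exact hu'
    have hr00 : r ≠ 0 := fun e => hrc' (by rw [e, map_zero])
    obtain ⟨w, hw, k, hk, hwc⟩ := U.every r hr0 hr00
    have hwb : w ≠ b := fun e => hrc' (by
      have : k * B (U.c c') r = 0 := by
        rw [← smul_eq_mul, ← map_smul, ← hwc, e, hS.isRefl _ _ hbc']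
      exact (mul_eq_zero.1 this).resolve_left hk)
    have hcw : ∀ z ∈ perp D a, Commute z w ↔ B (U.c z) r = 0 := fun z hz => by
      rw [U.comm z hz w hw, hwc, map_smul, smul_eq_mul, mul_eq_zero, or_iff_right hk]
    exact hrc' ((hcw c' hc').1 ((h w hw.1 hw.2.1 hwb hw.2.2 ((hcw b hb).2 hrb)).1 ((hcw c hc).2 hrc)))
  · rintro ⟨α, β, e⟩ w hw hwa hwb haw hbw
    have hw' : w ∈ perp D a := ⟨hw, hwa, haw⟩
    have hβ : β ≠ 0 := fun h0 => hc'b (U.inj b hb c' hc' α (by rw [e, h0, zero_smul, add_zero])).symm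
    have hσβ : σ β ≠ 0 := fun h0 => hβ (σ.injective (by rw [h0, map_zero]))
    rw [U.comm c hc w hw', U.comm c' hc' w hw', e, map_add, LinearMap.add_apply, LinearMap.map_smulₛₗ,
      LinearMap.map_smulₛₗ, LinearMap.smul_apply, LinearMap.smul_apply, (U.comm b hb w hw').1 hbw,
      smul_zero, zero_add, smul_eq_mul, mul_eq_zero, or_iff_right hσβ]

variable {D : Set G} (hD : Trans D) (hU : ∀ d ∈ D, Nonempty (Chart D d B)) {x y : G} (hx : x ∈ D)
  (U : Chart D x B)

/-- The nonzero vector `u` gives the point of a common neighbour of `x` and `y`. -/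
def InS (y : G) (u : V) : Prop := ∃ p ∈ common D x y, ∃ k : F, k ≠ 0 ∧ U.c p = k • u

include hD hU hx

/-- A line through a common neighbour contains exactly one other. -/
theorem exists_second (hxy : ¬ Commute x y) (hy : y ∈ D) {b c : G} (hb : b ∈ common D x y)
    (hc : c ∈ perp D x) (hcb : c ≠ b) (h : Commute b c) :
    ∃ c' ∈ common D x y, c' ≠ b ∧ (∃ α β : F, U.c c' = α • U.c b + β • U.c c) ∧
      ∀ c'' ∈ common D x y, c'' ≠ b → (∃ α β : F, U.c c'' = α • U.c b + β • U.c c) → c'' = c' := by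
  obtain ⟨W⟩ := hU b hb.1.1
  have hbx : x ∈ perp D b := ⟨hx, hb.1.2.1.symm, hb.1.2.2.symm⟩
  have hby : y ∈ perp D b := ⟨hy, fun e => hxy (e ▸ hb.1.2.2), hb.2.symm⟩
  have hbc : c ∈ perp D b := ⟨hc.1, hcb, h⟩
  have hne : B (W.c y) (W.c x) ≠ 0 := fun e => hxy ((W.comm y hby x hbx).2 e).symm
  have hxc : B (W.c x) (W.c c) = 0 := (W.comm x hbx c hbc).1 hc.2.2
  obtain ⟨t, ht⟩ : ∃ t, t = B (W.c y) (W.c c) / B (W.c y) (W.c x) := ⟨_, rfl⟩
  obtain ⟨r, hr⟩ : ∃ r, r = W.c c + t • W.c x := ⟨_, rfl⟩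
  have hr0 : B r r = 0 := by
    simp [hr, W.iso c hbc, W.iso x hbx, hxc, hS.isRefl _ _ hxc]
  have hyr : B (W.c y) r = 0 := by
    rw [hr, map_add, map_smul, smul_eq_mul, ht, div_mul_cancel₀ _ hne, ← two_mul, hK.two, zero_mul]
  have hr00 : r ≠ 0 := fun e => hcb (by
    exfalso
    have e' : W.c c = (-t) • W.c x := by rw [neg_smul]; exact eq_neg_of_add_eq_zero_left (hr ▸ e)
    exact hc.2.1 (W.inj x hbx c hbc _ e').symm)
  obtain ⟨c', hc', k, hk, hcc⟩ := W.every r hr0 hr00
  have hyc' : Commute y c' := (W.comm y hby c' hc').2 (by rw [hcc, map_smul, hyr, smul_zero])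
  have hxc' : Commute x c' := (W.comm x hbx c' hc').2 (by
    rw [hcc, hr, map_smul, map_add, map_smul, hxc, W.iso x hbx]; simp)
  have hc'x : c' ≠ x := fun e => hxy (e ▸ hyc').symm
  have hc'p : c' ∈ perp D x := ⟨hc'.1, hc'x, hxc'⟩
  have key : ∀ c₁ ∈ common D x y, c₁ ≠ b → (∃ α β : F, U.c c₁ = α • U.c b + β • U.c c) →
      ∃ α β : F, W.c c₁ = α • W.c x + β • W.c c := by
    intro c₁ h1 hne1 hs
    obtain ⟨α, β, e⟩ := hs
    have hbc₁ : Commute b c₁ := (U.comm b hb.1 c₁ h1.1).2 (by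
      rw [e, map_add, map_smul, map_smul, U.iso b hb.1, (U.comm b hb.1 c hc).1 h]; simp)
    exact (W.twin_iff hK hS hB hbx hbc ⟨h1.1.1, hne1, hbc₁⟩ hc.2.1 h1.1.2.1 hc.2.2 h1.1.2.2).1
      ((U.twin_iff hK hS hB hb.1 hc h1.1 hcb hne1 h hbc₁).2 ⟨α, β, e⟩).symm
  refine ⟨c', ⟨hc'p, hyc'⟩, hc'.2.1, ?_, fun c'' h'' hne'' hs => ?_⟩
  · exact (U.twin_iff hK hS hB hb.1 hc hc'p hcb hc'.2.1 h hc'.2.2).1
      ((W.twin_iff hK hS hB hbx hbc hc' hc.2.1 hc'x hc.2.2 hxc').2
        ⟨k * t, k, by rw [hcc, hr, smul_add, smul_smul, add_comm]⟩).symm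
  · obtain ⟨α, β, e⟩ := key c'' h'' hne'' hs
    have hc''b : c'' ∈ perp D b := by
      refine ⟨h''.1.1, hne'', ?_⟩
      obtain ⟨α', β', e'⟩ := hs
      exact (U.comm b hb.1 c'' h''.1).2 (by
        rw [e', map_add, map_smul, map_smul, U.iso b hb.1, (U.comm b hb.1 c hc).1 h]; simp)
    have h0 := (W.comm y hby c'' hc''b).1 h''.2
    rw [e, map_add, map_smul, map_smul, smul_eq_mul, smul_eq_mul] at h0
    have hα : α = β * t := by
      rw [ht, mul_div_assoc', eq_div_iff hne]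
      linear_combination h0 - (β * B (W.c y) (W.c c)) * hK.two
    refine (W.inj c' hc' c'' hc''b (β / k) ?_).symm
    rw [e, hcc, hr, hα, smul_smul, div_mul_cancel₀ _ hk, smul_add, smul_smul, add_comm]

variable (hxy : ¬ Commute x y) (hy : y ∈ D)
include hxy hy

omit hD hU hx hxy hy hK hS hB in
theorem InS.of_eq {u v : V} {l : F} (hl : l ≠ 0) (h : InS U y u) (e : v = l • u) : InS U y v := by
  obtain ⟨p, hp, k, hk, hpc⟩ := h
  exact ⟨p, hp, k / l, div_ne_zero hk hl, by rw [e, smul_smul, div_mul_cancel₀ _ hl, hpc]⟩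

/-- The third point of a hyperbolic line. -/
theorem InS.third {u v : V} (hu : InS U y u) (hv : InS U y v) :
    InS U y (v + B u v • u) := by
  obtain ⟨p, hp, k, hk, hpc⟩ := hu
  obtain ⟨q, hq, l, hl, hqc⟩ := hv
  obtain ⟨m, hm, hc⟩ := U.cjc p hp.1 q hq.1
  refine ⟨cj p q, ⟨(cj_mem_perp hD hx (Set.mem_insert_of_mem _ hp.1) hq.1).1,
    (commute_cj_of hD hp.1.1 hp.2.symm).2 hq.2⟩, m * l, mul_ne_zero hm hl, ?_⟩
  have e : B (U.c p) (U.c q) • U.c p = (l * B u v) • u := by
    rw [hpc, hqc, map_smul, LinearMap.map_smulₛₗ, LinearMap.smul_apply, smul_eq_mul, smul_eq_mul, smul_smul]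
    congr 1
    rw [hK.sq]
    linear_combination (l * B u v) * hK.cube k hk
  rw [hc, e, hqc]
  simp only [smul_add, smul_smul, mul_assoc]

/-- No three points of a line. -/
theorem InS.not_three {u v : V} {s : F} (huv : B u v = 0) (hne : ∀ r : F, v ≠ r • u) (hs : s ≠ 0)
    (hu : InS U y u) (hv : InS U y v) (hw : InS U y (v + s • u)) : False := by
  obtain ⟨p, hp, k, hk, hpc⟩ := hu
  obtain ⟨q, hq, l, hl, hqc⟩ := hv
  obtain ⟨o, ho, m, hm, hoc⟩ := hw
  have hu0 : u ≠ 0 := fun e => U.ne p hp.1 (by rw [hpc, e, smul_zero])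
  have hqp : q ≠ p := fun e => hne (k / l) (by
    rw [div_eq_inv_mul, mul_smul, ← hpc, ← e, hqc, smul_smul, inv_mul_cancel₀ hl, one_smul])
  have hop : o ≠ p := fun e => by
    rw [e, hpc, smul_add, smul_smul, ← sub_eq_iff_eq_add, ← sub_smul] at hoc
    refine hne (m⁻¹ * (k - m * s)) ?_
    rw [mul_smul, hoc, smul_smul, inv_mul_cancel₀ hm, one_smul]
  have hoq : o ≠ q := fun e => by
    rw [e, hqc, smul_add, smul_smul, ← sub_eq_iff_eq_add', ← sub_smul] at hoc
    rcases eq_or_ne (l - m) 0 with h0 | h0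
    · rw [h0, zero_smul] at hoc
      exact mul_ne_zero hm hs ((smul_eq_zero.1 hoc.symm).resolve_right hu0)
    · refine hne ((l - m)⁻¹ * (m * s)) ?_
      rw [mul_smul, ← hoc, smul_smul, inv_mul_cancel₀ h0, one_smul]
  have hpq : Commute p q := (U.comm p hp.1 q hq.1).2 (by simp [hpc, hqc, huv])
  obtain ⟨c', -, -, -, huniq⟩ := exists_second hK hS hB hD hU hx U hxy hy hp hq.1 hqp hpq
  have h1 := huniq q hq hqp ⟨0, 1, by rw [zero_smul, zero_add, one_smul]⟩
  have h2 := huniq o ho hop ⟨m * s / k, m / l, by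
    rw [hoc, hpc, hqc, smul_smul, smul_smul, div_mul_cancel₀ _ hk, div_mul_cancel₀ _ hl, smul_add,
      smul_smul, add_comm]⟩
  exact hoq (h2.trans h1.symm)

/-- The point over a line through a common neighbour. -/
theorem InS.exists_lift {b u : V} (hb : InS U y b) (hu : B u u = 0) (hbu : B b u = 0)
    (hne : ∀ r : F, u ≠ r • b) : ∃ t : F, InS U y (u + t • b) := by
  obtain ⟨p, hp, k, hk, hpc⟩ := hb
  have hu0 : u ≠ 0 := fun e => hne 0 (by rw [e, zero_smul])
  obtain ⟨c, hc, l, hl, hcc⟩ := U.every u hu hu0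
  have hcp : c ≠ p := fun e => hne (k / l) (by
    rw [div_eq_inv_mul, mul_smul, ← hpc, ← e, hcc, smul_smul, inv_mul_cancel₀ hl, one_smul])
  have hpc' : Commute p c := (U.comm p hp.1 c hc).2 (by simp [hpc, hcc, hbu])
  obtain ⟨c', hc', hne', ⟨α, β, e⟩, -⟩ := exists_second hK hS hB hD hU hx U hxy hy hp hc hcp hpc'
  have hβ : β ≠ 0 := fun h0 => hne' (U.inj p hp.1 c' hc'.1 α (by rw [e, h0, zero_smul, add_zero])).symm
  refine ⟨α * k / (β * l), c', hc', β * l, mul_ne_zero hβ hl, ?_⟩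
  rw [e, hpc, hcc, smul_smul, smul_smul, smul_add, smul_smul, mul_div_cancel₀ _ (mul_ne_zero hβ hl), add_comm]

/-- The point over a line through a common neighbour is unique. -/
theorem InS.lift_unique {b u : V} {t t' : F} (hb : InS U y b) (hbu : B b u = 0) (hbb : B b b = 0)
    (hne : ∀ r : F, u ≠ r • b) (h : InS U y (u + t • b)) (h' : InS U y (u + t' • b)) : t = t' := by
  by_contra htt
  refine InS.not_three hK hS hB hD hU hx U hxy hy (u := b) (v := u + t • b) (s := t' - t) ?_ ?_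
    (sub_ne_zero.2 (Ne.symm htt)) hb h ?_
  · rw [map_add, map_smul, hbu, hbb, smul_zero, add_zero]
  · intro r e
    exact hne (r - t) (by rw [sub_smul, ← e, add_sub_cancel_right])
  · rwa [add_assoc, ← add_smul, add_sub_cancel]

end Cfsg.Lib.Fischer.Thm.Unitary
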